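import Mathlib
import Groth.Agent.Lib.Helper1.LocalCrit

/-!
# Fibrewise flatness criterion, Noetherian local case (ring level)
-/

set_option autoImplicit false
universe u

open TensorProduct IsLocalRing

namespace Groth.Agent.Lib.Helper6.FlatFib

theorem flat_compHom_congr {A C M : Type*} [CommRing A] [CommRing C] [AddCommGroup M]
    [Module C M] {φ φ' : A →+* C} (h : φ = φ') :
    (letI := Module.compHom M φ; Module.Flat A M) ↔
      (letI := Module.compHom M φ'; Module.Flat A M) := by
  subst h; rfl

section Quot

variable {B : Type*} [CommRing B] (I : Ideal B) (M : Type*) [AddCommGroup M] [Module B M]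

/-- `(B/I) ⊗ M ≃ M / I M` as `B/I`-modules. -/
noncomputable def quotTensorEquiv :
    ((B ⧸ I) ⊗[B] M) ≃ₗ[B ⧸ I] (M ⧸ (I • (⊤ : Submodule B M))) :=
  (TensorProduct.quotTensorEquivQuotSMul M I).extendScalarsOfSurjective
    Ideal.Quotient.mk_surjective

theorem flat_quot_iff :
    Module.Flat (B ⧸ I) (M ⧸ (I • (⊤ : Submodule B M))) ↔
      Module.Flat (B ⧸ I) ((B ⧸ I) ⊗[B] M) :=
  (Module.Flat.equiv_iff (quotTensorEquiv I M)).symm

end Quot

section Inj

variable {A B M : Type*} [CommRing A] [CommRing B] [Algebra A B]
  [AddCommGroup M] [Module A M] [Module B M] [IsScalarTower A B M]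

/-- The comparison map `J ⊗[A] M → (J B) ⊗[B] M`. -/
noncomputable def compMap (J : Ideal A) : J ⊗[A] M →ₗ[A] (J.map (algebraMap A B)) ⊗[B] M :=
  TensorProduct.lift
    { toFun := fun a =>
        { toFun := fun m => (⟨algebraMap A B a, Ideal.mem_map_of_mem _ a.2⟩ :
            J.map (algebraMap A B)) ⊗ₜ[B] m
          map_add' := fun m m' => TensorProduct.tmul_add _ _ _
          map_smul' := fun r m => by
            simp only [RingHom.id_apply]
            rw [TensorProduct.tmul_smul] }
      map_add' := fun a a' => by
        ext m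
        simp only [LinearMap.coe_mk, AddHom.coe_mk, LinearMap.add_apply]
        rw [← TensorProduct.add_tmul]
        congr 1
        ext
        simp
      map_smul' := fun r a => by
        ext m
        simp only [LinearMap.coe_mk, AddHom.coe_mk, LinearMap.smul_apply, RingHom.id_apply]
        rw [TensorProduct.smul_tmul']
        congr 1
        ext
        simp [Algebra.smul_def] }

@[simp] theorem compMap_tmul (J : Ideal A) (a : J) (m : M) :
    compMap (B := B) J (a ⊗ₜ m) =
      (⟨algebraMap A B a, Ideal.mem_map_of_mem _ a.2⟩ : J.map (algebraMap A B)) ⊗ₜ[B] m := rfl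

theorem compMap_surjective (J : Ideal A) :
    Function.Surjective (compMap (B := B) (M := M) J) := by
  intro z
  induction z using TensorProduct.induction_on with
  | zero => exact ⟨0, map_zero _⟩
  | add x y hx hy =>
    obtain ⟨x', rfl⟩ := hx
    obtain ⟨y', rfl⟩ := hy
    exact ⟨x' + y', map_add _ _ _⟩
  | tmul i m =>
    obtain ⟨i, hi⟩ := i
    revert m
    refine Submodule.span_induction (p := fun i hi => ∀ m : M, ∃ w,
      compMap (B := B) (M := M) J w = (⟨i, hi⟩ : J.map (algebraMap A B)) ⊗ₜ[B] m)
      ?_ ?_ ?_ ?_ hi
    · rintro _ ⟨a, ha, rfl⟩ m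
      exact ⟨(⟨a, ha⟩ : J) ⊗ₜ m, rfl⟩
    · intro m
      refine ⟨0, ?_⟩
      rw [map_zero]
      have : (⟨0, Submodule.zero_mem _⟩ : J.map (algebraMap A B)) = 0 := rfl
      rw [this, TensorProduct.zero_tmul]
    · intro x y hx hy ihx ihy m
      obtain ⟨wx, hwx⟩ := ihx m
      obtain ⟨wy, hwy⟩ := ihy m
      refine ⟨wx + wy, ?_⟩
      rw [map_add, hwx, hwy, ← TensorProduct.add_tmul]
      rfl
    · intro b x hx ihx m
      obtain ⟨w, hw⟩ := ihx (b • m)
      refine ⟨w, ?_⟩
      rw [hw, ← TensorProduct.smul_tmul]
      rfl

/-- If `M` is `A`-flat then `(J B) ⊗[B] M → M` is injective. -/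
theorem rTensor_map_injective [Module.Flat A M] (J : Ideal A) :
    Function.Injective (LinearMap.rTensor M (Submodule.subtype (J.map (algebraMap A B)))) := by
  rw [injective_iff_map_eq_zero]
  intro z hz
  obtain ⟨w, rfl⟩ := compMap_surjective (B := B) (M := M) J z
  have hflat : Function.Injective (LinearMap.rTensor M (Submodule.subtype J)) :=
    Module.Flat.rTensor_preserves_injective_linearMap _ Subtype.val_injective
  have key : ∀ w : J ⊗[A] M,
      TensorProduct.lid B M (LinearMap.rTensor M (Submodule.subtype (J.map (algebraMap A B)))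
        (compMap (B := B) J w)) =
      TensorProduct.lid A M (LinearMap.rTensor M (Submodule.subtype J) w) := by
    intro w
    induction w using TensorProduct.induction_on with
    | zero => simp
    | add x y hx hy => simp only [map_add, hx, hy]
    | tmul a m =>
      simp only [compMap_tmul, LinearMap.rTensor_tmul, Submodule.subtype_apply,
        TensorProduct.lid_tmul]
      exact algebraMap_smul B (a : A) m
  have h0 : LinearMap.rTensor M (Submodule.subtype J) w = 0 := by
    apply (TensorProduct.lid A M).injective
    rw [← key, hz, map_zero, map_zero]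
  rw [hflat (h0.trans (map_zero _).symm), map_zero]

end Inj

section Main

/-- Fibrewise flatness criterion: flatness of `M` over `B`. -/
theorem flat_of_fiber {A B : Type u} (C : Type u) {M : Type u} [CommRing A] [CommRing B] [CommRing C]
    [IsLocalRing A] [IsLocalRing B] [IsLocalRing C] [IsNoetherianRing B] [IsNoetherianRing C]
    [Algebra A B] [Algebra B C] [IsLocalHom (algebraMap A B)] [IsLocalHom (algebraMap B C)]
    [AddCommGroup M] [Module A M] [Module B M] [Module C M] [IsScalarTower A B M]
    [IsScalarTower B C M] [Module.Finite C M] [Module.Flat A M]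
    (h : Module.Flat (B ⧸ (maximalIdeal A).map (algebraMap A B))
      (M ⧸ ((maximalIdeal A).map (algebraMap A B) • (⊤ : Submodule B M)))) :
    Module.Flat B M := by
  have hI : (maximalIdeal A).map (algebraMap A B) ≠ ⊤ :=
    Groth.Agent.Helper1.LocalCrit.map_ne_top_of_isLocalHom _
      (IsLocalRing.maximalIdeal.isMaximal A).ne_top
  have h2 : Module.Flat (B ⧸ (maximalIdeal A).map (algebraMap A B))
      ((B ⧸ (maximalIdeal A).map (algebraMap A B)) ⊗[B] M) := (flat_quot_iff _ M).mp h
  exact Groth.Agent.Helper1.LocalCrit.flat_of_rTensor_injective_of_flat_quotient (S := C)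
    ((maximalIdeal A).map (algebraMap A B))
    (Groth.Agent.Helper1.LocalCrit.map_ne_top_of_isLocalHom _ hI)
    (rTensor_map_injective (maximalIdeal A))

/-- A nonzero finite `C`-module that is flat over `B` is faithfully flat over `B`. -/
theorem faithfullyFlat_of_flat {B : Type u} (C : Type u) {M : Type u} [CommRing B] [CommRing C]
    [IsLocalRing B] [IsLocalRing C] [Algebra B C] [IsLocalHom (algebraMap B C)]
    [AddCommGroup M] [Module B M] [Module C M] [IsScalarTower B C M] [Module.Finite C M]
    [Module.Flat B M] [Nontrivial M] : Module.FaithfullyFlat B M := by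
  refine ⟨fun m hm htop => ?_⟩
  have hm' : m = maximalIdeal B := IsLocalRing.eq_maximalIdeal hm
  subst hm'
  -- m_C M = M
  have hC : (⊤ : Submodule C M) ≤ maximalIdeal C • (⊤ : Submodule C M) := by
    intro x _
    have hx : x ∈ maximalIdeal B • (⊤ : Submodule B M) := by
      rw [htop]; exact Submodule.mem_top
    refine Submodule.smul_induction_on hx ?_ ?_
    · intro b hb n _
      rw [← algebraMap_smul C b n]
      refine Submodule.smul_mem_smul ?_ Submodule.mem_top
      exact (IsLocalRing.map_maximalIdeal_le (algebraMap B C)) (Ideal.mem_map_of_mem _ hb)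
    · intro x y hx hy
      exact add_mem hx hy
  have hbot := Submodule.eq_bot_of_le_smul_of_le_jacobson_bot (maximalIdeal C)
    (⊤ : Submodule C M) Module.Finite.fg_top hC
    (IsLocalRing.maximalIdeal_le_jacobson _)
  have : Subsingleton M := by
    rw [← Submodule.subsingleton_iff C]
    exact subsingleton_of_bot_eq_top hbot.symm
  exact not_subsingleton M this

/-- If `M` is flat over `A` and faithfully flat over `B`, then `B` is flat over `A`. -/
theorem flat_of_faithfullyFlat {A B : Type u} (M : Type u) [CommRing A] [CommRing B] [Algebra A B]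
    [AddCommGroup M] [Module A M] [Module B M] [IsScalarTower A B M]
    [Module.Flat A M] [Module.FaithfullyFlat B M] :
    Module.Flat A B := by
  rw [Module.Flat.iff_lTensor_preserves_injective_linearMap]
  intro N P _ _ _ _ f hf
  -- after tensoring with M over B, the map is (up to iso) f ⊗ M
  have h1 : Function.Injective (LinearMap.lTensor M f) :=
    Module.Flat.lTensor_preserves_injective_linearMap f hf
  let eN : M ⊗[B] (B ⊗[A] N) ≃ₗ[B] M ⊗[A] N :=
    TensorProduct.AlgebraTensorModule.cancelBaseChange A B B M N
  let eP : M ⊗[B] (B ⊗[A] P) ≃ₗ[B] M ⊗[A] P :=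
    TensorProduct.AlgebraTensorModule.cancelBaseChange A B B M P
  let fB : B ⊗[A] N →ₗ[B] B ⊗[A] P := TensorProduct.AlgebraTensorModule.lTensor B B f
  have hfB : ⇑fB = ⇑(LinearMap.lTensor B f) := rfl
  rw [← hfB, ← Module.FaithfullyFlat.lTensor_injective_iff_injective B M]
  have hcomm : ∀ z, eP (LinearMap.lTensor M fB z) = LinearMap.lTensor M f (eN z) := by
    intro z
    induction z using TensorProduct.induction_on with
    | zero => simp
    | add x y hx hy => simp only [map_add, hx, hy]
    | tmul m y =>
      induction y using TensorProduct.induction_on with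
      | zero => simp
      | add x y hx hy => simp only [TensorProduct.tmul_add, map_add, hx, hy]
      | tmul b n =>
        simp [eP, eN, fB]
  intro z z' hzz
  apply eN.injective
  apply h1
  rw [← hcomm, ← hcomm, hzz]

/-- Fibrewise flatness criterion, Noetherian local rings. -/
theorem fiber_flat_iff {A B : Type u} (C : Type u) {M : Type u} [CommRing A] [CommRing B] [CommRing C]
    [IsLocalRing A] [IsLocalRing B] [IsLocalRing C] [IsNoetherianRing B] [IsNoetherianRing C]
    [Algebra A B] [Algebra B C] [IsLocalHom (algebraMap A B)] [IsLocalHom (algebraMap B C)]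
    [AddCommGroup M] [Module A M] [Module B M] [Module C M] [IsScalarTower A B M]
    [IsScalarTower B C M] [Module.Finite C M] [Nontrivial M] :
    (Module.Flat A M ∧ Module.Flat (B ⧸ (maximalIdeal A).map (algebraMap A B))
      (M ⧸ ((maximalIdeal A).map (algebraMap A B) • (⊤ : Submodule B M)))) ↔
    (Module.Flat A B ∧ Module.Flat B M) := by
  constructor
  · rintro ⟨h1, h2⟩
    have hB : Module.Flat B M := flat_of_fiber C h2
    have hff : Module.FaithfullyFlat B M := faithfullyFlat_of_flat C
    exact ⟨flat_of_faithfullyFlat M, hB⟩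
  · rintro ⟨h1, h2⟩
    refine ⟨Module.Flat.trans A B M, ?_⟩
    rw [flat_quot_iff]
    infer_instance

end Main

end Groth.Agent.Lib.Helper6.FlatFib
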